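import Cfsg.Agent.H45.Gallagher
import Cfsg.Agent.H43.Constituents
import Cfsg.Agent.H26.CharLinear
import Cfsg.Agent.S0886

/-! The number of characters over an invariant character of a normal subgroup. -/

set_option autoImplicit false
set_option linter.unusedSectionVars false
set_option linter.style.haveILetI false

namespace Cfsg.Agent.H27.SolvBlock

open Cfsg

variable {G : Type*} [Group G] [Fintype G] (N : Subgroup G) [hN : N.Normal] [Fintype N]

/-- The characters over an invariant character are proportional on every coset. -/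
theorem exists_coset_fun (θ : IrrCharacter N)
    (hinv : ∀ (g : G) (n : N), (θ : N → ℂ) ⟨g * n * g⁻¹, hN.conj_mem n n.2 g⟩ = (θ : N → ℂ) n)
    (g : G) :
    ∃ E : N → ℂ, ∀ χ : IrrCharacter G, classInner (fun n : N => (χ : G → ℂ) n) (θ : N → ℂ) ≠ 0 →
      ∃ c : ℂ, ∀ n : N, (χ : G → ℂ) (g * n) = c * E n := by
  classical
  let K : Subgroup G := (Subgroup.zpowers (g : G ⧸ N)).comap (QuotientGroup.mk' N)
  have hNK : N ≤ K := QuotientGroup.le_comap_mk' N _
  have hgK : g ∈ K := Subgroup.mem_zpowers (g : G ⧸ N)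
  haveI : Fintype K := Fintype.ofFinite K
  haveI : Fintype (N.subgroupOf K) := Fintype.ofFinite _
  haveI : Fintype (K ⧸ N.subgroupOf K) := Fintype.ofFinite _
  have hcyc : IsCyclic (K ⧸ N.subgroupOf K) := by
    let f : K →* Subgroup.zpowers (g : G ⧸ N) :=
      ((QuotientGroup.mk' N).comp K.subtype).codRestrict _ fun x => x.2
    have hf : f.ker = N.subgroupOf K := Subgroup.ext fun x => by
      rw [MonoidHom.mem_ker, Subgroup.mem_subgroupOf, Subtype.ext_iff]
      exact QuotientGroup.eq_one_iff (x : G)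
    exact isCyclic_of_injective ((QuotientGroup.kerLift f).comp
      (QuotientGroup.quotientMulEquivOfEq hf.symm).toMonoidHom)
      ((QuotientGroup.kerLift_injective f).comp (MulEquiv.injective _))
  let e := Subgroup.subgroupOfEquivOfLe hNK
  obtain ⟨ψ₀, hψ₀, hres₀⟩ := Cfsg.Agent.S0886.result (N.subgroupOf K) hcyc
    (fun x => (θ : N → ℂ) (e x)) (H56.isIrrCharacter_comp_equiv θ.2 e)
    (fun y x => (congrArg (θ : N → ℂ) (Subtype.ext (by rfl))).trans (hinv (y : G) (e x)))
  let ψ : IrrCharacter K := ⟨ψ₀, hψ₀⟩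
  have hψres : (fun x : N.subgroupOf K => (ψ : K → ℂ) x) =
      fun x : N.subgroupOf K => (θ : N → ℂ) (e x) := funext hres₀
  have hψ : IsIrrCharacter (N.subgroupOf K) fun x : N.subgroupOf K => (ψ : K → ℂ) x := by
    rw [hψres]; exact H56.isIrrCharacter_comp_equiv θ.2 e
  refine ⟨fun n => (ψ : K → ℂ) ⟨g * n, K.mul_mem hgK (hNK n.2)⟩, fun χ hχ => ?_⟩
  have hχK : IsCharacter K fun k : K => (χ : G → ℂ) k :=
    H26.isCharacter_comp (H26.irr_isCharacter χ) K.subtype
  have huniq : ∀ η : IrrCharacter N, H43.mult (fun n : N => (χ : G → ℂ) n) η ≠ 0 → η = θ := by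
    intro η hη
    have hθ : H43.restrMult N χ θ ≠ 0 := fun h => hχ ((H43.classInner_eq_mult
      (H43.isCharacter_restr N χ) θ).trans (by exact_mod_cast h))
    obtain ⟨x, hx⟩ := H43.exists_irrConj_of_restrMult_ne_zero N χ hθ hη
    rw [← hx]
    refine Subtype.ext (funext fun n => ?_)
    rw [H43.irrConj_apply, ← hinv x n]
    exact congrArg (θ : N → ℂ) (Subtype.ext (MulAut.conjNormal_apply x n))
  have hprod : ∀ μ : IrrCharacter K, H43.mult (fun k : K => (χ : G → ℂ) k) μ ≠ 0 →
      ∃ l : ℂ, ∀ n : N, (μ : K → ℂ) ⟨g * n, K.mul_mem hgK (hNK n.2)⟩ =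
        l * (ψ : K → ℂ) ⟨g * n, K.mul_mem hgK (hNK n.2)⟩ := by
    intro μ hμ
    have hμN : IsCharacter N fun n : N => (μ : K → ℂ) (Subgroup.inclusion hNK n) :=
      H26.isCharacter_comp (H26.irr_isCharacter μ) (Subgroup.inclusion hNK)
    have hone : ∃ η : IrrCharacter N,
        H43.mult (fun n : N => (μ : K → ℂ) (Subgroup.inclusion hNK n)) η ≠ 0 := by
      by_contra hno
      push Not at hno
      have h := H43.apply_one_eq_sum_mult hμN
      simp [hno] at h
      exact H26.irr_one_ne_zero μ h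
    obtain ⟨η, hη⟩ := hone
    have hηθ : η = θ := huniq η fun h0 => by
      have h : H43.mult (fun n : N => (χ : G → ℂ) n) η = _ :=
        H43.mult_comp (Subgroup.inclusion hNK) hχK η
      rw [h0] at h
      exact mul_ne_zero hμ hη (Finset.sum_eq_zero_iff.1 h.symm μ (Finset.mem_univ _))
    subst hηθ
    obtain ⟨lam, hlam⟩ := H45.exists_extMul (N.subgroupOf K) ψ hψ μ (by
      rw [hψres]
      have h1 := H43.classInner_congr e (fun n : N => (μ : K → ℂ) (Subgroup.inclusion hNK n))
        (η : N → ℂ)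
      rw [show (fun x : N.subgroupOf K => (μ : K → ℂ) x) =
        fun x : N.subgroupOf K => (μ : K → ℂ) (Subgroup.inclusion hNK (e x)) from rfl, h1,
        H43.classInner_eq_mult hμN]
      exact_mod_cast hη)
    refine ⟨lam.1 ((⟨g, hgK⟩ : K) : K ⧸ N.subgroupOf K), fun n => ?_⟩
    rw [← hlam]
    show (ψ : K → ℂ) _ * lam.1 _ = _
    rw [mul_comm ((ψ : K → ℂ) _)]
    refine congrArg (· * _) (congrArg lam.1 (QuotientGroup.eq.2 (Subgroup.mem_subgroupOf.2 ?_)))
    show (g * (n : G))⁻¹ * g ∈ N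
    rw [mul_inv_rev, inv_mul_cancel_right]
    exact N.inv_mem n.2
  choose l hl using hprod
  refine ⟨∑ μ : IrrCharacter K, if h : H43.mult (fun k : K => (χ : G → ℂ) (k : G)) μ ≠ 0 then
    (H43.mult (fun k : K => (χ : G → ℂ) k) μ : ℂ) * l μ h else 0, fun n => ?_⟩
  have h := congrFun (H43.eq_sum_mult hχK) ⟨g * n, K.mul_mem hgK (hNK n.2)⟩
  simp only [Finset.sum_apply, Pi.smul_apply, smul_eq_mul] at h
  rw [h, Finset.sum_mul]
  refine Finset.sum_congr rfl fun μ _ => ?_
  by_cases hμ : H43.mult (fun k : K => (χ : G → ℂ) k) μ ≠ 0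
  · rw [dif_pos hμ, hl μ hμ, mul_assoc]
  · rw [dif_neg hμ, not_not.1 hμ, Nat.cast_zero, zero_mul, zero_mul]

/-- At most as many characters lie over an invariant character as the quotient has classes. -/
theorem card_over_le (θ : IrrCharacter N)
    (hinv : ∀ (g : G) (n : N), (θ : N → ℂ) ⟨g * n * g⁻¹, hN.conj_mem n n.2 g⟩ = (θ : N → ℂ) n) :
    Nat.card {χ : IrrCharacter G // classInner (fun n : N => (χ : G → ℂ) n) (θ : N → ℂ) ≠ 0} ≤
      Nat.card (ConjClasses (G ⧸ N)) := by
  classical
  let I := {χ : IrrCharacter G // classInner (fun n : N => (χ : G → ℂ) n) (θ : N → ℂ) ≠ 0}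
  haveI : Finite (ConjClasses (G ⧸ N)) := Finite.of_surjective _ ConjClasses.mk_surjective
  haveI : Fintype (ConjClasses (G ⧸ N)) := Fintype.ofFinite _
  haveI : Fintype I := Fintype.ofFinite I
  choose E hE using exists_coset_fun N θ hinv
  choose c hc using fun g (χ : I) => hE g χ.1 χ.2
  choose q hq using fun C : ConjClasses (G ⧸ N) => ConjClasses.mk_surjective C
  choose r hr using fun C : ConjClasses (G ⧸ N) => QuotientGroup.mk_surjective (q C)
  let pt : ConjClasses (G ⧸ N) → N := fun C =>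
    if h : ∃ n, E (r C) n ≠ 0 then h.choose else 1
  let Φ : (I → ℂ) →ₗ[ℂ] (ConjClasses (G ⧸ N) → ℂ) :=
    { toFun := fun a C => ∑ χ : I, a χ * χ.1.1 (r C * pt C)
      map_add' := fun a a' => by funext C; simp [add_mul, Finset.sum_add_distrib]
      map_smul' := fun b a => by funext C; simp [Finset.mul_sum, mul_assoc] }
  have hinj : Function.Injective Φ := by
    rw [injective_iff_map_eq_zero]
    intro a ha
    have hF0 : (∑ χ : I, a χ • χ.1.1) = (0 : G → ℂ) := by
      funext x
      simp only [Finset.sum_apply, Pi.smul_apply, smul_eq_mul, Pi.zero_apply]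
      set C := ConjClasses.mk (x : G ⧸ N)
      obtain ⟨u, hu⟩ := isConj_iff.1 (ConjClasses.mk_eq_mk_iff_isConj.1
        ((hq C).symm ▸ rfl : ConjClasses.mk (x : G ⧸ N) = ConjClasses.mk (q C)))
      obtain ⟨u, rfl⟩ := QuotientGroup.mk_surjective u
      rw [← hr C, ← QuotientGroup.mk_inv, ← QuotientGroup.mk_mul, ← QuotientGroup.mk_mul] at hu
      let n : N := ⟨(r C)⁻¹ * (u * x * u⁻¹), QuotientGroup.eq.1 hu.symm⟩
      have hval : ∀ χ : I, χ.1.1 x = c (r C) χ * E (r C) n := fun χ => by
        rw [← hc (r C) χ n, show r C * ((r C)⁻¹ * (u * x * u⁻¹)) = u * x * u⁻¹ from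
          mul_inv_cancel_left _ _, H26.irr_conj]
      simp only [hval, ← mul_assoc, ← Finset.sum_mul]
      by_cases hex : ∃ m, E (r C) m ≠ 0
      · have h : ∑ χ : I, a χ * χ.1.1 (r C * pt C) = 0 := congrFun ha C
        simp only [hc, ← mul_assoc, ← Finset.sum_mul] at h
        have hpt : E (r C) (pt C) ≠ 0 := by simp only [pt, dif_pos hex]; exact hex.choose_spec
        rw [(mul_eq_zero.1 h).resolve_right hpt, zero_mul]
      · push Not at hex
        rw [hex n, mul_zero]
    funext η
    have h := congrArg (fun F => classInner F η.1.1) hF0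
    simp only [H26.classInner_sum_left, H26.classInner_smul_left, H26.classInner_irr,
      H26.classInner_zero_left] at h
    rw [Finset.sum_eq_single η (fun b _ hb => by rw [if_neg fun e => hb (Subtype.ext e), mul_zero])
      (fun hb => absurd (Finset.mem_univ _) hb), if_pos rfl, mul_one] at h
    exact h
  have h := LinearMap.finrank_le_finrank_of_injective hinj
  rw [Module.finrank_fintype_fun_eq_card, Module.finrank_fintype_fun_eq_card] at h
  rw [Nat.card_eq_fintype_card, Nat.card_eq_fintype_card]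
  exact h

end Cfsg.Agent.H27.SolvBlock
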