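import Cfsg.Agent.H27.SolvBlock.ClassBound
import Cfsg.Agent.H27.SolvBlock.Clifford
import Cfsg.Agent.H41.SolvableHeight

/-! The size of a block of a soluble group in terms of its defect. -/

set_option autoImplicit false
set_option linter.unusedSectionVars false
set_option linter.style.haveILetI false

namespace Cfsg.Agent.H27.SolvBlock

open Cfsg

universe u

/-- The bound for all blocks, by Fong reduction. -/
theorem card_block_le (p : ℕ) [hp : Fact p.Prime] (M : Ideal Cfsg.AlgInt) (hM : Cfsg.IsPModular p M) :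
    ∀ (n : ℕ) {G : Type u} [Group G] [Fintype G], Nat.card G = n → Group.IsSolvable G →
    ∀ B : Set (Cfsg.IrrCharacter G), Cfsg.IsPBlock M B →
      Set.ncard B ≤ 3 ^ (Cfsg.blockDefect p B - 1) * p ^ Cfsg.blockDefect p B := by
  intro n
  induction n using Nat.strong_induction_on with
  | _ n ih =>
  intro G _ _ hG hsol B hB
  classical
  haveI := hM.2.1
  haveI := hsol
  have hsolv : Cfsg.IsPSolvable p G := H25.isPSolvable_of_isSolvable hp.out _ G rfl hsol
  obtain ⟨χ, hχ⟩ := H41.IsPBlock.nonempty hB
  set N := Cfsg.pPrimeCore p G with hNdef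
  haveI hNn : N.Normal := H19.pPrimeCore_normal p G
  haveI := Fintype.ofFinite N
  have hn : ¬ p ∣ Nat.card N :=
    (Nat.Prime.coprime_iff_not_dvd hp.out).1 (H19.pPrimeCore_coprime p).symm
  obtain ⟨θ, hθ⟩ := H44.RelGraph.exists_constituent (N := N) χ
  have hθb : Cfsg.blockOf M (θ : N → ℂ) = {θ} := H40.blockOf_eq_singleton hM θ
    (by rw [Nat.factorization_eq_zero_of_not_dvd hn]; exact Nat.zero_le _)
  set b : Set (Cfsg.IrrCharacter N) := {θ} with hbdef
  have hb : Cfsg.IsPBlock M b := ⟨θ, hθb.symm⟩
  let T : Subgroup G := H26.blockStab N b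
  have S : H26.FRSetup N M b T := H26.frSetup_blockStab hb
  have hcov : ∃ χ' ∈ B, H26.CoversG b χ' := ⟨χ, hχ, θ, rfl, hθ⟩
  by_cases hT : T = ⊤
  · have hinv : ∀ (g : G) (m : N),
        (θ : N → ℂ) ⟨g * m * g⁻¹, hNn.conj_mem m m.2 g⟩ = (θ : N → ℂ) m := fun g m => by
      have hg : g ∈ T := hT ▸ Subgroup.mem_top g
      have h := congrArg (fun φ : Cfsg.IrrCharacter N => (φ : N → ℂ) m)
        (Set.mem_singleton_iff.1 (hg θ rfl))
      simp only [H43.irrConj_apply] at h
      exact (congrArg (θ : N → ℂ) (Subtype.ext (by simp))).trans h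
    obtain ⟨B₀, hB₀, hmem, hSyl, -⟩ := Cfsg.Agent.S4492.result p M hM hsolv N hNdef θ hinv
    have hBB : B = B₀ := H41.block_eq_of_mem_of_mem hB hB₀ hχ ((hmem χ).2 hθ)
    subst hBB
    obtain ⟨P⟩ : Nonempty (Sylow p G) := inferInstance
    have hd : Cfsg.blockDefect p B = (Nat.card G).factorization p :=
      Nat.pow_right_injective hp.out.two_le (by
        show p ^ Cfsg.blockDefect p B = p ^ (Nat.card G).factorization p
        rw [← H40.card_defectGroup hM hB (hSyl P), P.card_eq_multiplicity])
    have hd' : (Nat.card G).factorization p = (Nat.card (G ⧸ N)).factorization p := by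
      rw [N.card_eq_card_quotient_mul_card_subgroup,
        Nat.factorization_mul Nat.card_pos.ne' Nat.card_pos.ne', Finsupp.add_apply,
        Nat.factorization_eq_zero_of_not_dvd hn, add_zero]
    have hcore : Cfsg.pPrimeCore p (G ⧸ N) = ⊥ := by
      have h := H19.pPrimeCore_quotient_pPrimeCore (G := G) p
      simpa only [← hNdef] using h
    calc Set.ncard B = Nat.card {χ : Cfsg.IrrCharacter G //
          Cfsg.classInner (fun m : N => (χ : G → ℂ) m) (θ : N → ℂ) ≠ 0} := by
          rw [← Nat.card_coe_set_eq]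
          exact Nat.card_congr (Equiv.subtypeEquivRight hmem)
      _ ≤ Nat.card (ConjClasses (G ⧸ N)) := card_over_le N θ hinv
      _ ≤ _ := card_conjClasses_le_of_pPrimeCore_bot _ (G ⧸ N) rfl
          (Group.isSolvable_of_surjective (f := QuotientGroup.mk' N) (QuotientGroup.mk'_surjective N))
          hcore
      _ = _ := by rw [hd, hd']
  · haveI := Fintype.ofFinite T
    obtain ⟨B', hB', hcov', hind⟩ := S.induced_surjective hB hcov
    obtain ⟨hdef, -⟩ := S.defect_and_heights hM hB' hcov' hind
    obtain ⟨C, hC, -, -, hmemC⟩ := S.exists_induced hB' hcov'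
    obtain rfl := H26.FRSetup.induced_unique hind hC
    obtain ⟨D, hD⟩ := H40.exists_isDefectGroup hM hB'
    have hd : Cfsg.blockDefect p B = Cfsg.blockDefect p B' :=
      Nat.pow_right_injective hp.out.two_le (by
        show p ^ Cfsg.blockDefect p B = p ^ Cfsg.blockDefect p B'
        rw [← H40.card_defectGroup hM hB (hdef D hD), ← H40.card_defectGroup hM hB' hD]
        exact (Nat.card_congr (D.equivMapOfInjective _ T.subtype_injective).toEquiv).symm)
    have hlt : Nat.card T < n := by
      rw [← hG]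
      exact lt_of_le_of_ne (Subgroup.card_le_card_group T)
        fun h => hT (Subgroup.eq_top_of_card_eq T h)
    have h1 := ih (Nat.card T) hlt rfl inferInstance B' hB'
    rw [hd]
    refine le_trans ?_ h1
    choose f hf hfe using fun χ (hχ : χ ∈ B) => (hmemC χ).1 hχ
    exact Set.ncard_le_ncard_of_injOn (fun χ => if h : χ ∈ B then f χ h else Classical.choice ⟨(H41.IsPBlock.nonempty hB').choose⟩)
      (fun χ hχ => by simp only [dif_pos hχ]; exact hf χ hχ)
      (fun a ha c hc h => by
        simp only [dif_pos ha, dif_pos hc] at h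
        exact Subtype.ext ((hfe a ha).trans (h ▸ (hfe c hc).symm)))

end Cfsg.Agent.H27.SolvBlock
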