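import Cfsg.Agent.H27.SolvBlock.RealVector
import Cfsg.Agent.H27.SolvBlock.Lift
import Cfsg.Agent.H21.LinClasses.Main
import Cfsg.Agent.H24.PGroupBasic
import Cfsg.Agent.H58.PGroupKernel
import Cfsg.Agent.H35.Constrained
import Cfsg.Agent.H25.SolvablePSolvable
import Cfsg.Agent.H19.Cores
import Cfsg.Agent.S4201
import Cfsg.Agent.S4959

/-! The class number of a soluble group without normal subgroups of order prime to `p`. -/

set_option autoImplicit false
set_option linter.unusedSectionVars false
set_option linter.style.haveILetI false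

namespace Cfsg.Agent.H27.SolvBlock

open Cfsg.Agent.H21.LinClasses (card_conjClasses_of_surjective card_conjClasses_le_card)
open scoped commutatorElement

universe u

/-- The bound of Keller type for soluble groups with a faithful complex representation. -/
theorem card_conjClasses_mod_fitting_of_injective {P : Type u} [Group P] [Finite P]
    (hsolv : Group.IsSolvable P) {a : ℕ} (ha : 1 ≤ a) (ψ : P →* GL (Fin a) ℂ)
    (hψ : Function.Injective ψ) [(Cfsg.fittingSubgroup P).Normal] :
    Nat.card (ConjClasses (P ⧸ Cfsg.fittingSubgroup P)) ≤ 3 ^ (a - 1) := by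
  let e : P ≃* ψ.range := MonoidHom.ofInjective hψ
  haveI : Finite ψ.range := Finite.of_equiv P e.toEquiv
  have hsR : Group.IsSolvable ψ.range := Group.isSolvable_of_surjective (f := e.toMonoidHom) e.surjective
  haveI := H19.fitting_normal ψ.range
  have hle : (Cfsg.fittingSubgroup ψ.range).map e.symm.toMonoidHom ≤ Cfsg.fittingSubgroup P := by
    refine H19.le_fitting (Subgroup.Normal.map inferInstance _ e.symm.surjective) ?_
    haveI := H19.fitting_isNilpotent (G := ψ.range)
    exact Group.nilpotent_of_mulEquiv (Subgroup.equivMapOfInjective _ _ e.symm.injective)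
  let f₀ : (⊤ : Subgroup ψ.range) →* P ⧸ Cfsg.fittingSubgroup P :=
    (QuotientGroup.mk' _).comp (e.symm.toMonoidHom.comp (⊤ : Subgroup ψ.range).subtype)
  refine le_trans (card_conjClasses_of_surjective
    (QuotientGroup.lift ((Cfsg.fittingSubgroup ψ.range).subgroupOf ⊤) f₀ fun x hx =>
      (QuotientGroup.eq_one_iff _).2 (hle ⟨x, hx, rfl⟩)) fun y => ?_)
    (H21.LinClasses.card_conjClasses_mod_fitting a ha ψ.range hsR ⊤)
  obtain ⟨y, rfl⟩ := QuotientGroup.mk_surjective y
  refine ⟨QuotientGroup.mk ⟨e y, trivial⟩, ?_⟩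
  show ((e.symm (e y) : P) : P ⧸ Cfsg.fittingSubgroup P) = y
  rw [e.symm_apply_apply]

/-- The `k(GV)` bound for a nilpotent complement. -/
theorem card_conjClasses_le_of_nilpotent_quotient {X : Type u} [Group X] [Finite X] {p : ℕ}
    [Fact p.Prime] (V : Subgroup X) [V.Normal] (hexp : ∀ v ∈ V, v ^ p = 1)
    (hab : ∀ v ∈ V, ∀ w ∈ V, v * w = w * v) (hidx : ¬ p ∣ V.index)
    (hself : Subgroup.centralizer (V : Set X) ≤ V) (hnil : Group.IsNilpotent (X ⧸ V)) :
    Nat.card (ConjClasses X) ≤ Nat.card V := by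
  classical
  have hVp : IsPGroup p V := fun v => ⟨1, Subtype.ext (by simpa using hexp v v.2)⟩
  obtain ⟨k, hk⟩ := IsPGroup.iff_card.1 hVp
  obtain ⟨G, hG⟩ := Subgroup.exists_right_complement'_of_coprime (N := V) (by
    rw [hk]; exact ((Fact.out : p.Prime).coprime_iff_not_dvd.2 hidx).pow_left k)
  have hcG : Nat.card G = V.index := hG.symm.index_eq_card.symm
  have hGnil : Group.IsNilpotent G := by
    haveI := hnil
    refine Subgroup.isNilpotent_of_ker_le_center ((QuotientGroup.mk' V).comp G.subtype) fun g hg => ?_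
    have h1 : (g : X) ∈ V ⊓ G := ⟨(QuotientGroup.eq_one_iff (g : X)).1 hg, g.2⟩
    rw [hG.disjoint.eq_bot, Subgroup.mem_bot] at h1
    rw [show g = 1 from Subtype.ext h1]
    exact one_mem _
  letI : CommGroup V :=
    { (inferInstance : Group V) with mul_comm := fun x y => Subtype.ext (hab x x.2 y y.2) }
  letI : DistribMulAction G (Additive V) :=
    { smul := fun g x => Additive.ofMul (MulAut.conjNormal (g : X) x.toMul)
      one_smul := fun x => Subtype.ext (by
        show ((MulAut.conjNormal ((1 : G) : X) x.toMul : V) : X) = _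
        rw [MulAut.conjNormal_apply, OneMemClass.coe_one, one_mul, inv_one, mul_one]
        rfl)
      mul_smul := fun g h x => Subtype.ext (by
        show ((MulAut.conjNormal ((g * h : G) : X) x.toMul : V) : X) =
          ((MulAut.conjNormal (g : X) (MulAut.conjNormal (h : X) x.toMul) : V) : X)
        rw [Subgroup.coe_mul, map_mul, MulAut.mul_apply])
      smul_zero := fun g => congrArg Additive.ofMul (map_one (MulAut.conjNormal (g : X)))
      smul_add := fun g x y => congrArg Additive.ofMul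
        (map_mul (MulAut.conjNormal (g : X)) x.toMul y.toMul) }
  obtain ⟨v, β, hβ, hn⟩ := exists_real (p := p) (V := Additive V) hGnil (hcG ▸ hidx)
    fun x => congrArg Additive.ofMul (Subtype.ext (by simpa using hexp _ x.toMul.2) :
      x.toMul ^ p = 1)
  let β' : X → X → ZMod p := fun x y =>
    if h : x ∈ V ∧ y ∈ V then β (Additive.ofMul ⟨x, h.1⟩) (Additive.ofMul ⟨y, h.2⟩) else 0
  have hβ' : ∀ (x y : X) (hx : x ∈ V) (hy : y ∈ V),
      β' x y = β (Additive.ofMul ⟨x, hx⟩) (Additive.ofMul ⟨y, hy⟩) := fun x y hx hy =>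
    dif_pos ⟨hx, hy⟩
  refine Cfsg.Agent.S4959.result p V hexp hidx (le_antisymm hself fun x hx => ?_) G hG
    ((v.toMul : V) : X) v.toMul.2 V le_rfl (fun h _ _ u hu => ‹V.Normal›.conj_mem u hu h)
    (fun h hh _ hfix => ?_) β' ?_ ?_ ?_ ?_
  · exact Subgroup.mem_centralizer_iff.2 fun y hy => hab y hy x hx
  · have h1 : h ∈ V ⊓ G := ⟨hself (Subgroup.mem_centralizer_iff.2 fun u hu =>
      ((mul_inv_eq_iff_eq_mul).1 (hfix u hu)).symm), hh⟩
    rwa [hG.disjoint.eq_bot, Subgroup.mem_bot] at h1
  · intro u hu u' hu' w hw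
    rw [hβ' _ _ (mul_mem hu hu') hw, hβ' _ _ hu hw, hβ' _ _ hu' hw, ← AddMonoidHom.add_apply,
      ← map_add]
    rfl
  · intro u hu w hw w' hw'
    rw [hβ' _ _ hu (mul_mem hw hw'), hβ' _ _ hu hw, hβ' _ _ hu hw', ← map_add]
    rfl
  · intro h hh hfix u hu w hw
    rw [hβ' _ _ (‹V.Normal›.conj_mem u hu h) (‹V.Normal›.conj_mem w hw h), hβ' _ _ hu hw]
    have hv : (⟨h, hh⟩ : G) • v = v := Subtype.ext (show ((MulAut.conjNormal h v.toMul : V) : X) = _ by
      rw [MulAut.conjNormal_apply]; exact hfix)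
    refine Eq.trans ?_ (hβ ⟨h, hh⟩ hv (Additive.ofMul ⟨u, hu⟩) (Additive.ofMul ⟨w, hw⟩))
    rfl
  · intro u hu h0
    have h1 := hn (Additive.ofMul ⟨u, hu⟩) fun y => by
      have h2 := h0 y.toMul y.toMul.2
      rw [hβ' _ _ hu y.toMul.2] at h2
      exact h2
    exact congrArg (fun z : Additive V => ((z.toMul : V) : X)) h1

/-- The matrices of an action on an elementary abelian group. -/
theorem exists_gl_hom {X : Type u} [Group X] {p : ℕ} [Fact p.Prime] {W : Type u} [AddCommGroup W]
    [Finite W] (hexp : ∀ x : W, p • x = 0) {a : ℕ} (hcard : Nat.card W = p ^ a)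
    (e : X →* AddMonoid.End W) :
    ∃ φ : X →* GL (Fin a) (ZMod p), ∀ g, φ g = 1 ↔ ∀ w, e g w = w := by
  obtain ⟨mW⟩ : Nonempty (Module (ZMod p) W) := ⟨AddCommGroup.zmodModule hexp⟩
  letI := mW
  haveI : Module.Finite (ZMod p) W := Module.Finite.of_finite
  have hfr : Module.finrank (ZMod p) W = a := by
    refine Nat.pow_right_injective (Fact.out : p.Prime).two_le ?_
    show p ^ Module.finrank (ZMod p) W = p ^ a
    have hn := Module.natCard_eq_pow_finrank (K := ZMod p) (V := W)
    rw [Nat.card_zmod, hcard] at hn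
    exact hn.symm
  let b := Module.finBasisOfFinrankEq (ZMod p) W hfr
  let ρ : X →* Module.End (ZMod p) W :=
    { toFun := fun g => AddMonoidHom.toZModLinearMap p (e g)
      map_one' := LinearMap.ext fun x => DFunLike.congr_fun (map_one e) x
      map_mul' := fun g g' => LinearMap.ext fun x => DFunLike.congr_fun (map_mul e g g') x }
  refine ⟨((LinearMap.toMatrixAlgEquiv b).toAlgHom.toRingHom.toMonoidHom.comp ρ).toHomUnits,
    fun g => ⟨fun h w => ?_, fun h => Units.ext ?_⟩⟩
  · have h2 : ρ g = 1 := (LinearMap.toMatrixAlgEquiv b).injective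
      ((congrArg Units.val h).trans (map_one _).symm)
    exact LinearMap.congr_fun h2 w
  · show LinearMap.toMatrixAlgEquiv b (ρ g) = 1
    rw [show ρ g = 1 from LinearMap.ext h, map_one]

/-- The bound for a self-centralising elementary abelian normal Sylow subgroup. -/
theorem card_conjClasses_elemAb {X : Type u} [Group X] [Finite X] (hsolv : Group.IsSolvable X)
    {p : ℕ} [Fact p.Prime] (V : Subgroup X) [V.Normal] (hexp : ∀ v ∈ V, v ^ p = 1)
    (hab : ∀ v ∈ V, ∀ w ∈ V, v * w = w * v) (hidx : ¬ p ∣ V.index)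
    (hself : Subgroup.centralizer (V : Set X) ≤ V) {a : ℕ} (hcard : Nat.card V = p ^ a)
    (ha : 1 ≤ a) : Nat.card (ConjClasses X) ≤ p ^ a * 3 ^ (a - 1) := by
  classical
  haveI := hsolv
  haveI := H19.fitting_normal (X ⧸ V)
  let h : X →* (X ⧸ V) ⧸ Cfsg.fittingSubgroup (X ⧸ V) :=
    (QuotientGroup.mk' _).comp (QuotientGroup.mk' V)
  have hh : Function.Surjective h :=
    (QuotientGroup.mk'_surjective _).comp (QuotientGroup.mk'_surjective V)
  have hVF : V ≤ h.ker := fun v hv => by
    rw [MonoidHom.mem_ker, MonoidHom.comp_apply,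
      show QuotientGroup.mk' V v = 1 from (QuotientGroup.eq_one_iff v).2 hv, map_one]
  have h1 := Cfsg.Agent.S4201.result h.ker
  have hF : Nat.card (ConjClasses h.ker) ≤ p ^ a := by
    rw [← hcard, ← Nat.card_congr (Subgroup.subgroupOfEquivOfLe hVF).toEquiv]
    refine card_conjClasses_le_of_nilpotent_quotient (V.subgroupOf h.ker) (p := p)
      (fun v hv => Subtype.ext (by simpa using hexp _ hv))
      (fun v hv w hw => Subtype.ext (hab _ hv _ hw)) (fun hd => hidx ?_) (fun x hx => ?_) ?_
    · exact hd.trans (Subgroup.relIndex_dvd_index_of_normal V h.ker)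
    · refine hself (Subgroup.mem_centralizer_iff.2 fun v hv => ?_)
      exact congrArg Subtype.val (Subgroup.mem_centralizer_iff.1 hx ⟨v, hVF hv⟩ hv)
    · haveI := H19.fitting_isNilpotent (G := X ⧸ V)
      let f : (h.ker ⧸ V.subgroupOf h.ker) →* Cfsg.fittingSubgroup (X ⧸ V) :=
        QuotientGroup.lift _ (((QuotientGroup.mk' V).comp h.ker.subtype).codRestrict _ fun x =>
          (QuotientGroup.eq_one_iff _).1 (MonoidHom.mem_ker.1 x.2)) fun x hx =>
          MonoidHom.mem_ker.2 (Subtype.ext ((QuotientGroup.eq_one_iff (x : X)).2 hx))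
      refine Subgroup.isNilpotent_of_ker_le_center f fun y hy => ?_
      induction y using QuotientGroup.induction_on with
      | _ y =>
        rw [(QuotientGroup.eq_one_iff y).2
          ((QuotientGroup.eq_one_iff (y : X)).1 (congrArg Subtype.val (MonoidHom.mem_ker.1 hy)))]
        exact one_mem _
  have hQ : Nat.card (ConjClasses (X ⧸ h.ker)) ≤ 3 ^ (a - 1) := by
    refine le_trans (card_conjClasses_of_surjective
      (QuotientGroup.quotientKerEquivOfSurjective h hh).symm.toMonoidHom (MulEquiv.surjective _)) ?_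
    letI : CommGroup V :=
      { (inferInstance : Group V) with mul_comm := fun x y => Subtype.ext (hab x x.2 y y.2) }
    haveI : Finite (Additive V) := Finite.of_equiv V Additive.ofMul
    obtain ⟨φ, hφ⟩ := exists_gl_hom (a := a) (W := Additive V)
      (fun x => congrArg Additive.ofMul (Subtype.ext (by simpa using hexp _ x.toMul.2) : x.toMul ^ p = 1))
      ((Nat.card_congr Additive.toMul).trans hcard)
      { toFun := fun g => (MulAut.conjNormal g : MulAut V).toMonoidHom.toAdditive
        map_one' := AddMonoidHom.ext fun x => congrArg Additive.ofMul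
          (DFunLike.congr_fun (map_one (MulAut.conjNormal : X →* MulAut V)) x.toMul)
        map_mul' := fun g g' => AddMonoidHom.ext fun x => congrArg Additive.ofMul
          (DFunLike.congr_fun (map_mul (MulAut.conjNormal : X →* MulAut V) g g') x.toMul) }
    have hkerφ : φ.ker = V := by
      refine le_antisymm (fun x hx => ?_) fun v hv => MonoidHom.mem_ker.2 ((hφ v).2 fun w => ?_)
      · refine hself (Subgroup.mem_centralizer_iff.2 fun v hv => ?_)
        have h3 : ((MulAut.conjNormal x : MulAut V) ⟨v, hv⟩ : X) = v :=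
          congrArg (fun z : Additive V => ((z.toMul : V) : X))
            ((hφ x).1 (MonoidHom.mem_ker.1 hx) (Additive.ofMul ⟨v, hv⟩))
        rw [MulAut.conjNormal_apply, mul_inv_eq_iff_eq_mul] at h3
        exact h3.symm
      · refine Subtype.ext ?_
        show ((MulAut.conjNormal v : MulAut V) w.toMul : X) = _
        rw [MulAut.conjNormal_apply, hab v hv _ w.toMul.2, mul_inv_cancel_right]
        rfl
    let φ' : X ⧸ V →* GL (Fin a) (ZMod p) :=
      (QuotientGroup.kerLift φ).comp (QuotientGroup.quotientMulEquivOfEq hkerφ.symm).toMonoidHom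
    obtain ⟨ψ, hψ⟩ := exists_complex_faithful (H := X ⧸ V) hidx φ'
      ((QuotientGroup.kerLift_injective φ).comp (MulEquiv.injective _))
    exact card_conjClasses_mod_fitting_of_injective
      (Group.isSolvable_of_surjective (f := QuotientGroup.mk' V) (QuotientGroup.mk'_surjective V))
      ha ψ hψ
  exact h1.trans (Nat.mul_le_mul hF hQ)

/-- The bound for a self-centralising normal Sylow subgroup. -/
theorem card_conjClasses_normal_sylow {Y : Type u} [Group Y] [Finite Y] (hsolv : Group.IsSolvable Y)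
    {p : ℕ} [Fact p.Prime] (Q : Subgroup Y) [Q.Normal] {c : ℕ} (hcard : Nat.card Q = p ^ c)
    (hc : 1 ≤ c) (hidx : ¬ p ∣ Q.index) (hself : Subgroup.centralizer (Q : Set Y) ≤ Q) :
    Nat.card (ConjClasses Y) ≤ 3 ^ (c - 1) * p ^ c := by
  classical
  haveI := hsolv
  have hQ : IsPGroup p Q := IsPGroup.of_card hcard
  set F := (frattini Q).map Q.subtype with hFdef
  haveI hFn : F.Normal := ConjAct.normal_of_characteristic_of_normal
  have hFQ : F ≤ Q := Subgroup.map_subtype_le _
  obtain ⟨K, hKn, hKp, hK⟩ := H58.exists_normal_pGroup_trivial_mod_frattini Q hQ hself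
  have hKQ : K ≤ Q := by
    intro x hx
    obtain ⟨i, hi⟩ := IsPGroup.iff_orderOf.1 hKp ⟨x, hx⟩
    rw [Subgroup.orderOf_mk] at hi
    refine (QuotientGroup.eq_one_iff x).1 (orderOf_eq_one_iff.1 (Nat.dvd_one.1 ?_))
    have h1 : orderOf (x : Y ⧸ Q) ∣ p ^ i := hi ▸ orderOf_map_dvd (QuotientGroup.mk' Q) x
    have h2 : orderOf (x : Y ⧸ Q) ∣ Q.index := orderOf_dvd_natCard _
    have h3 := Nat.dvd_gcd h1 h2
    rwa [((Fact.out : p.Prime).coprime_iff_not_dvd.2 hidx).pow_left i] at h3
  let V : Subgroup (Y ⧸ F) := Q.map (QuotientGroup.mk' F)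
  haveI : V.Normal := Subgroup.Normal.map inferInstance _ (QuotientGroup.mk'_surjective F)
  have hVexp : ∀ v ∈ V, v ^ p = 1 := by
    rintro _ ⟨x, hx, rfl⟩
    rw [← map_pow]
    exact (QuotientGroup.eq_one_iff _).2 ⟨⟨x, hx⟩ ^ p, H24.pow_mem_frattini hQ _, rfl⟩
  have hVab : ∀ v ∈ V, ∀ w ∈ V, v * w = w * v := by
    rintro _ ⟨x, hx, rfl⟩ _ ⟨y, hy, rfl⟩
    rw [← map_mul, ← map_mul]
    refine QuotientGroup.eq.2 ⟨⁅(⟨y, hy⟩ : Q)⁻¹, (⟨x, hx⟩ : Q)⁻¹⁆, H24.commutator_le_frattini hQ
      (Subgroup.commutator_mem_commutator (Subgroup.mem_top _) (Subgroup.mem_top _)), ?_⟩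
    simp [commutatorElement_def, mul_assoc]
  have hVidx : V.index = Q.index := Subgroup.index_map_eq (H := Q) (QuotientGroup.mk'_surjective F)
    (by rw [QuotientGroup.ker_mk']; exact hFQ)
  have hVself : Subgroup.centralizer (V : Set (Y ⧸ F)) ≤ V := by
    intro z hz
    obtain ⟨x, rfl⟩ := QuotientGroup.mk_surjective z
    refine ⟨x, hKQ (hK x fun q hq => (QuotientGroup.eq_one_iff _).1 ?_), rfl⟩
    show QuotientGroup.mk' F (q * x * q⁻¹ * x⁻¹) = 1
    rw [map_mul, map_mul, map_mul, map_inv, map_inv,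
      show QuotientGroup.mk' F q * QuotientGroup.mk' F x = QuotientGroup.mk' F x * QuotientGroup.mk' F q
        from Subgroup.mem_centralizer_iff.1 hz _ ⟨q, hq, rfl⟩]
    show QuotientGroup.mk' F x * QuotientGroup.mk' F q * (QuotientGroup.mk' F q)⁻¹ * (QuotientGroup.mk' F x)⁻¹ = 1
    rw [mul_inv_cancel_right, mul_inv_cancel]
  have hmul : Nat.card Q = Nat.card F * Nat.card V := by
    refine Nat.eq_of_mul_eq_mul_right (Nat.pos_of_ne_zero Q.index_ne_zero_of_finite) ?_
    rw [Q.card_mul_index, mul_assoc, ← hVidx, V.card_mul_index]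
    exact F.card_mul_index.symm
  obtain ⟨f, -, hf⟩ := (Nat.dvd_prime_pow Fact.out).1 (hcard ▸ hmul ▸ dvd_mul_right (Nat.card F) (Nat.card V))
  obtain ⟨a, -, ha⟩ := (Nat.dvd_prime_pow Fact.out).1 (hcard ▸ hmul ▸ dvd_mul_left (Nat.card V) (Nat.card F))
  have hfa : c = f + a := Nat.pow_right_injective (Fact.out : p.Prime).two_le (by
    show p ^ c = p ^ (f + a)
    rw [pow_add, ← hf, ← ha, ← hmul, hcard])
  have ha1 : 1 ≤ a := by
    by_contra hlt
    rw [Nat.lt_one_iff.1 (not_le.1 hlt), pow_zero, Subgroup.card_eq_one] at ha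
    have hle : Q ≤ F := fun x hx => (QuotientGroup.eq_one_iff x).1 (by
      have : (x : Y ⧸ F) ∈ V := ⟨x, hx, rfl⟩
      rwa [ha, Subgroup.mem_bot] at this)
    have htop : frattini Q = ⊤ := eq_top_iff.2 fun y _ => by
      obtain ⟨z, hz, e⟩ := hle y.2
      rwa [← show z = y from Subtype.ext e]
    have hbot : (⊥ : Subgroup Q) = ⊤ := frattini_nongenerating (by rw [htop, sup_top_eq])
    have h1 : Nat.card Q = 1 := by
      rw [← Nat.card_congr (Subgroup.topEquiv (G := Q)).toEquiv, ← hbot, Subgroup.card_bot]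
    rw [hcard] at h1
    exact absurd h1 (Nat.one_lt_pow (by omega) (Fact.out : p.Prime).one_lt).ne'
  have h1 := card_conjClasses_elemAb (X := Y ⧸ F)
    (Group.isSolvable_of_surjective (f := QuotientGroup.mk' F) (QuotientGroup.mk'_surjective F))
    V hVexp hVab (hVidx ▸ hidx) hVself ha ha1
  refine (Cfsg.Agent.S4201.result F).trans ((Nat.mul_le_mul ((card_conjClasses_le_card F).trans hf.le) h1).trans ?_)
  rw [← mul_assoc, ← pow_add, ← hfa, mul_comm]
  exact Nat.mul_le_mul_right _ (Nat.pow_le_pow_right (by norm_num) (by omega))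

/-- The class number of a soluble group with trivial `p'`-core. -/
theorem card_conjClasses_le_of_pPrimeCore_bot {p : ℕ} [hp : Fact p.Prime] (n : ℕ) :
    ∀ (X : Type u) [Group X] [Finite X], Nat.card X = n → Group.IsSolvable X →
      Cfsg.pPrimeCore p X = ⊥ →
      Nat.card (ConjClasses X) ≤
        3 ^ ((Nat.card X).factorization p - 1) * p ^ (Nat.card X).factorization p := by
  induction n using Nat.strong_induction_on with
  | _ n ih =>
  intro X _ _ hn hsolv hcore
  classical
  cases subsingleton_or_nontrivial X with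
  | inl hs =>
    refine (card_conjClasses_le_card X).trans ?_
    rw [Nat.card_unique]
    exact Nat.one_le_iff_ne_zero.2
      (Nat.mul_ne_zero (pow_ne_zero _ (by norm_num)) (pow_ne_zero _ hp.out.ne_zero))
  | inr hnt =>
    haveI := hsolv
    set Q := Cfsg.pCore p X with hQdef
    haveI hQn : Q.Normal := H19.pCore_normal p X
    have hC : Subgroup.centralizer (Q : Set X) ≤ Q :=
      H35.centralizer_pCore_le_of_isPSolvable hcore
        (H25.isPSolvable_of_isSolvable hp.out _ _ rfl inferInstance)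
    obtain ⟨c, hc⟩ := IsPGroup.iff_card.1 (H19.pCore_isPGroup (G := X) p)
    have hc1 : 1 ≤ c := by
      by_contra hlt
      rw [Nat.lt_one_iff.1 (not_le.1 hlt), pow_zero, Subgroup.card_eq_one] at hc
      rw [hQdef, hc] at hC
      exact top_ne_bot (α := Subgroup X) (bot_unique fun x _ =>
        hC (Subgroup.mem_centralizer_iff.2 fun y hy => by
          rw [SetLike.mem_coe, Subgroup.mem_bot] at hy; subst hy; rw [one_mul, mul_one]))
    haveI hOn : (Cfsg.pPrimeCore p (X ⧸ Q)).Normal := H19.pPrimeCore_normal p _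
    let h : X →* (X ⧸ Q) ⧸ Cfsg.pPrimeCore p (X ⧸ Q) :=
      (QuotientGroup.mk' _).comp (QuotientGroup.mk' Q)
    have hh : Function.Surjective h :=
      (QuotientGroup.mk'_surjective _).comp (QuotientGroup.mk'_surjective Q)
    have hQY : Q ≤ h.ker := fun v hv => by
      rw [MonoidHom.mem_ker, MonoidHom.comp_apply,
        show QuotientGroup.mk' Q v = 1 from (QuotientGroup.eq_one_iff v).2 hv, map_one]
    have hker : h.ker = (Cfsg.pPrimeCore p (X ⧸ Q)).comap (QuotientGroup.mk' Q) := by
      rw [show h.ker = (QuotientGroup.mk' (Cfsg.pPrimeCore p (X ⧸ Q))).ker.comap (QuotientGroup.mk' Q)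
        from rfl, QuotientGroup.ker_mk']
    have hcardY : Nat.card h.ker = Nat.card (Cfsg.pPrimeCore p (X ⧸ Q)) * p ^ c := by
      rw [hker, H19.card_comap_mk, hc]
    have hcop : ¬ p ∣ Nat.card (Cfsg.pPrimeCore p (X ⧸ Q)) :=
      (Nat.Prime.coprime_iff_not_dvd hp.out).1 (H19.pPrimeCore_coprime p).symm
    have hQ'card : Nat.card (Q.subgroupOf h.ker) = p ^ c := by
      rw [Nat.card_congr (Subgroup.subgroupOfEquivOfLe hQY).toEquiv, hc]
    have hrel : Q.relIndex h.ker = Nat.card (Cfsg.pPrimeCore p (X ⧸ Q)) := by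
      refine Nat.eq_of_mul_eq_mul_left (pow_pos hp.out.pos c) ?_
      have := (Q.subgroupOf h.ker).card_mul_index
      rw [hQ'card, hcardY, mul_comm (Nat.card _)] at this
      exact this
    have hY := card_conjClasses_normal_sylow (Y := h.ker) inferInstance (Q.subgroupOf h.ker)
      hQ'card hc1 (by rw [← hrel] at hcop; exact hcop) fun x hx => hC
        (Subgroup.mem_centralizer_iff.2 fun y hy =>
          congrArg Subtype.val (Subgroup.mem_centralizer_iff.1 hx ⟨y, hQY hy⟩ hy))
    let R := (X ⧸ Q) ⧸ Cfsg.pPrimeCore p (X ⧸ Q)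
    have hXR : Nat.card X = Nat.card h.ker * Nat.card R := by
      rw [← h.ker.card_mul_index, Subgroup.index_eq_card,
        Nat.card_congr (QuotientGroup.quotientKerEquivOfSurjective h hh).toEquiv]
    have hd : (Nat.card X).factorization p = c + (Nat.card R).factorization p := by
      rw [hXR, hcardY, Nat.factorization_mul (Nat.mul_ne_zero Nat.card_pos.ne' (pow_ne_zero c hp.out.ne_zero)) Nat.card_pos.ne',
        Nat.factorization_mul Nat.card_pos.ne' (pow_ne_zero c hp.out.ne_zero)]
      simp [Nat.factorization_eq_zero_of_not_dvd hcop, hp.out.factorization_pow]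
    have hlt : Nat.card R < n := by
      rw [← hn, hXR]
      refine lt_mul_of_one_lt_left Nat.card_pos ?_
      rw [hcardY]
      exact lt_of_lt_of_le (Nat.one_lt_pow (by omega) hp.out.one_lt) (Nat.le_mul_of_pos_left _ Nat.card_pos)
    have hR := ih _ hlt R rfl (Group.isSolvable_of_surjective (f := h) hh)
      (H19.pPrimeCore_quotient_pPrimeCore p)
    have hQk : Nat.card (ConjClasses (X ⧸ h.ker)) ≤ Nat.card (ConjClasses R) :=
      card_conjClasses_of_surjective (QuotientGroup.quotientKerEquivOfSurjective h hh).symm.toMonoidHom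
        (MulEquiv.surjective _)
    refine (Cfsg.Agent.S4201.result h.ker).trans ((Nat.mul_le_mul hY (hQk.trans hR)).trans ?_)
    rw [hd, pow_add, mul_mul_mul_comm, ← pow_add 3]
    exact Nat.mul_le_mul_right _ (Nat.pow_le_pow_right (by norm_num) (by omega))

end Cfsg.Agent.H27.SolvBlock
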